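import Cfsg.Prelude.Def_AxialAlgebras
import Cfsg.Agent.Lib.Axial.Majorana

/-!
# The local identities of Norton-Sakuma

For an axis `a` with involution swapping `p, m`, the products `a·σ₁` (`mul_sig`), `a·σ₂'` (`local_Y`),
`a·(σ₁σ₁)` (`local_AX`) and `σ₁σ₁` (`local_X`).
-/

set_option autoImplicit false

namespace Cfsg.Agent.Sakuma

open Cfsg.Axial Cfsg.Agent.Axial

variable {V : Type*} [AddCommGroup V] [Module ℝ V]
variable {mul : V →ₗ[ℝ] V →ₗ[ℝ] V} {B : LinearMap.BilinForm ℝ V} {μ : V ≃ₗ[ℝ] V}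

/-- The `σ`-vector of two axes. -/
noncomputable def sig (mul : V →ₗ[ℝ] V →ₗ[ℝ] V) (x y : V) : V := mul x y - (1 / 32 : ℝ) • (x + y)

theorem mul_eq_sig (x y : V) : mul x y = sig mul x y + (1 / 32 : ℝ) • (x + y) := by
  unfold sig; module

theorem sig_comm (hV : IsMajoranaAmbient mul B) (x y : V) : sig mul x y = sig mul y x := by
  unfold sig; rw [hV.1 x y, add_comm x y]

theorem map_sig (φ : V ≃ₗ[ℝ] V) (hφ : ∀ u v, φ (mul u v) = mul (φ u) (φ v)) (x y : V) :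
    φ (sig mul x y) = sig mul (φ x) (φ y) := by
  simp only [sig, map_sub, map_smul, map_add, hφ]

/-- Every vector splits into a fixed vector and a `1/32`-vector. -/
theorem exists_split {a : V} (h : IsMajoranaPair mul B μ a) (v : V) :
    ∃ f r : V, μ f = f ∧ μ r = -r ∧ mul a r = (1 / 32 : ℝ) • r ∧ v = f + r := by
  obtain ⟨-, -, ⟨⟨-, -, htop, -⟩, -⟩, hfix, hneg⟩ := h
  have hmem : v ∈ eigenSum mul a majoranaSpectrum := htop ▸ Submodule.mem_top
  rw [eigenSum_spectrum, Submodule.mem_sup] at hmem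
  obtain ⟨f, hf, r, hr, rfl⟩ := hmem
  exact ⟨f, r, hfix f (by rw [eigenSum_three]; exact hf), hneg r hr, mem_eigen.mp hr, rfl⟩

theorem apply_self {a : V} (h : IsMajoranaPair mul B μ a) (v : V) : μ (μ v) = v := by
  obtain ⟨f, r, hf, hr, -, rfl⟩ := exists_split h v
  simp [hf, hr]

theorem apply_axis {a : V} (h : IsMajoranaPair mul B μ a) : μ a = a := by
  refine h.2.2.2.1 a ?_
  rw [eigenSum_three]
  exact Submodule.mem_sup_left (Submodule.mem_sup_left (mem_eigen.mpr (by rw [h.2.2.1.1.2.1, one_smul])))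

/-- The involution is determined by the axis. -/
theorem pair_unique {a : V} {μ' : V ≃ₗ[ℝ] V} (h : IsMajoranaPair mul B μ a)
    (h' : IsMajoranaPair mul B μ' a) : μ = μ' := by
  refine LinearEquiv.ext fun v => ?_
  obtain ⟨-, -, ⟨⟨-, -, htop, -⟩, -⟩, hfix, hneg⟩ := h
  obtain ⟨-, -, -, hfix', hneg'⟩ := h'
  have hmem : v ∈ eigenSum mul a majoranaSpectrum := htop ▸ Submodule.mem_top
  rw [eigenSum_spectrum, Submodule.mem_sup] at hmem
  obtain ⟨f, hf, r, hr, rfl⟩ := hmem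
  rw [← eigenSum_three] at hf
  have e1 : μ f = f := hfix f hf
  have e2 : μ r = -r := hneg r hr
  have e3 : μ' f = f := hfix' f hf
  have e4 : μ' r = -r := hneg' r hr
  rw [map_add, map_add, e1, e2, e3, e4]

/-- `σ(a, b)` is fixed by the involution of `a`. -/
theorem fixed_sig {a : V} (h : IsMajoranaPair mul B μ a) (b : V) :
    μ (sig mul a b) = sig mul a b := by
  obtain ⟨f, r, hf, hr, har, rfl⟩ := exists_split h b
  rw [map_sig μ h.1, map_add, apply_axis h, hf, hr]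
  simp only [sig, map_add, map_neg, har]
  module

/-- The eigenvectors for `0` and `1/4` seen from `a` and a pair `b, μ b`. -/
theorem eigvecs (hV : IsMajoranaAmbient mul B) {a : V} (h : IsMajoranaPair mul B μ a) (hn : B a a = 1)
    {b b' : V} (hb : μ b = b') {l : ℝ} (hl : B a b = l) {S : V} (hS : sig mul a b = S) :
    mul a ((7 / 16 : ℝ) • (b + b') - (4 : ℝ) • S + ((24 * l - 1) / 8) • a) = 0 ∧
    mul a ((4 : ℝ) • S + (1 / 16 : ℝ) • (b + b') + ((1 - 32 * l) / 8) • a) =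
      (1 / 4 : ℝ) • ((4 : ℝ) • S + (1 / 16 : ℝ) • (b + b') + ((1 - 32 * l) / 8) • a) ∧
    B a ((7 / 16 : ℝ) • (b + b') - (4 : ℝ) • S + ((24 * l - 1) / 8) • a) = 0 ∧
    B a ((4 : ℝ) • S + (1 / 16 : ℝ) • (b + b') + ((1 - 32 * l) / 8) • a) = 0 := by
  have hfix : μ ((1 / 2 : ℝ) • (b + b')) = (1 / 2 : ℝ) • (b + b') := by
    rw [map_smul, map_add, hb, ← hb, apply_self h, hb, add_comm b b']
  have hab' : B a b' = l := by rw [← hb, ← hl]; conv_lhs => rw [← apply_axis h]; rw [h.2.1]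
  have hS' : sig mul a b' = S := by
    rw [← hS, ← hb, ← fixed_sig h b, map_sig μ h.1, apply_axis h]
  have hid : mul a a = a := h.2.2.1.1.2.1
  obtain ⟨z, q, hz, hq, hBz, hBq, hd⟩ := fixed_decomp hV h hn hfix
  have ht : B a ((1 / 2 : ℝ) • (b + b')) = l := by
    rw [map_smul, map_add, hl, hab', smul_eq_mul]; ring
  rw [ht] at hd
  have h1 : mul a ((1 / 2 : ℝ) • (b + b')) = l • a + (1 / 4 : ℝ) • q := by
    rw [hd]; simp only [map_add, map_smul, hid, hz, hq, add_zero]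
  have h2 : mul a ((1 / 2 : ℝ) • (b + b')) =
      S + (1 / 32 : ℝ) • a + (1 / 64 : ℝ) • (b + b') := by
    rw [map_smul, map_add, mul_eq_sig a b, mul_eq_sig a b', hS, hS']; module
  have hqe : q = (4 : ℝ) • S + (1 / 16 : ℝ) • (b + b') + ((1 - 32 * l) / 8) • a := by
    have h3 := h1.symm.trans h2
    linear_combination (norm := module) (4 : ℝ) • h3
  have hze : z = (7 / 16 : ℝ) • (b + b') - (4 : ℝ) • S + ((24 * l - 1) / 8) • a := by
    rw [hqe] at hd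
    linear_combination (norm := module) -(1 : ℝ) • hd
  rw [← hqe, ← hze]
  exact ⟨hz, hq, hBz, hBq⟩

/-- `a · σ₁`. -/
theorem mul_sig (hV : IsMajoranaAmbient mul B) {a : V} (h : IsMajoranaPair mul B μ a) (hn : B a a = 1)
    {b b' : V} (hb : μ b = b') {l : ℝ} (hl : B a b = l) {S : V} (hS : sig mul a b = S) :
    mul a S = ((31 * l - 1) / 32) • a + (7 / 32 : ℝ) • S + (7 / 2048 : ℝ) • (b + b')
      + (7 * (1 - 32 * l) / 1024) • a := by
  obtain ⟨hz, hq, -, -⟩ := eigvecs hV h hn hb hl hS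
  have hid : mul a a = a := h.2.2.1.1.2.1
  simp only [map_add, map_sub, map_smul, hid] at hz hq
  linear_combination (norm := module) (7 / 32 : ℝ) • hq - (1 / 32 : ℝ) • hz

/-- The hypotheses of the local computations. -/
structure Loc (mul : V →ₗ[ℝ] V →ₗ[ℝ] V) (B : LinearMap.BilinForm ℝ V) (μ : V ≃ₗ[ℝ] V)
    (a p m pp mm S E O : V) (l o : ℝ) : Prop where
  amb : IsMajoranaAmbient mul B
  pair : IsMajoranaPair mul B μ a
  norm : B a a = 1
  swap : μ p = m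
  ap : mul a p = S + (1 / 32 : ℝ) • (a + p)
  am : mul a m = S + (1 / 32 : ℝ) • (a + m)
  app : mul a pp = E + (1 / 32 : ℝ) • (a + pp)
  amm : mul a mm = E + (1 / 32 : ℝ) • (a + mm)
  p_p : mul p p = p
  m_m : mul m m = m
  p_m : mul p m = O + (1 / 32 : ℝ) • (p + m)
  pS : mul p S = ((31 * l - 1) / 32) • p + (7 / 32 : ℝ) • S + (7 / 2048 : ℝ) • (pp + a)
      + (7 * (1 - 32 * l) / 1024) • p
  mS : mul m S = ((31 * l - 1) / 32) • m + (7 / 32 : ℝ) • S + (7 / 2048 : ℝ) • (mm + a)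
      + (7 * (1 - 32 * l) / 1024) • m
  Bap : B a p = l
  Bpp : B p p = 1
  Bmm : B m m = 1
  Bpm : B p m = o
  BpS : B p S = (31 * l - 1) / 32
  BmS : B m S = (31 * l - 1) / 32

section Local

variable {a p m pp mm S E O : V} {l o : ℝ}

theorem Loc.sig_eq (L : Loc mul B μ a p m pp mm S E O l o) : sig mul a p = S := by
  rw [sig, L.ap]; module

theorem Loc.aS (L : Loc mul B μ a p m pp mm S E O l o) :
    mul a S = ((31 * l - 1) / 32) • a + (7 / 32 : ℝ) • S + (7 / 2048 : ℝ) • (p + m)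
      + (7 * (1 - 32 * l) / 1024) • a :=
  mul_sig L.amb L.pair L.norm L.swap L.Bap L.sig_eq

theorem Loc.a_a (L : Loc mul B μ a p m pp mm S E O l o) : mul a a = a := L.pair.2.2.1.1.2.1

local notation "uv" => ((7 / 16 : ℝ) • (p + m) - (4 : ℝ) • S + ((24 * l - 1) / 8) • a)
local notation "wv" => ((4 : ℝ) • S + (1 / 16 : ℝ) • (p + m) + ((1 - 32 * l) / 8) • a)

theorem Loc.expand (L : Loc mul B μ a p m pp mm S E O l o) :
    mul uv uv = (16 : ℝ) • mul S S + (((-21 / 8 : ℝ) * l + (1183 / 4096 : ℝ)) • m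
      + ((-49 / 4096 : ℝ)) • mm
      + ((-9 : ℝ) * l ^ 2 + (3 / 4 : ℝ) * l + (-81 / 2048 : ℝ)) • a
      + ((-21 / 8 : ℝ) * l + (1183 / 4096 : ℝ)) • p
      + ((-49 / 4096 : ℝ)) • pp
      + ((49 / 128 : ℝ)) • O
      + ((-49 / 32 : ℝ)) • S) ∧
    mul wv wv = (16 : ℝ) • mul S S + (((1 / 4 : ℝ) * l + (-17 / 4096 : ℝ)) • m
      + ((7 / 4096 : ℝ)) • mm
      + ((-8 : ℝ) * l ^ 2 + (1 / 2 : ℝ) * l + (-9 / 2048 : ℝ)) • a
      + ((1 / 4 : ℝ) * l + (-17 / 4096 : ℝ)) • p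
      + ((7 / 4096 : ℝ)) • pp
      + ((1 / 128 : ℝ)) • O
      + ((-8 : ℝ) * l + (15 / 32 : ℝ)) • S) ∧
    mul uv wv = (-16 : ℝ) • mul S S + (((75 / 64 : ℝ) * l + (-39 / 4096 : ℝ)) • m
      + ((21 / 4096 : ℝ)) • mm
      + ((9 : ℝ) * l ^ 2 + (-21 / 32 : ℝ) * l + (45 / 2048 : ℝ)) • a
      + ((75 / 64 : ℝ) * l + (-39 / 4096 : ℝ)) • p
      + ((21 / 4096 : ℝ)) • pp
      + ((7 / 128 : ℝ)) • O
      + ((3 : ℝ) * l + (17 / 32 : ℝ)) • S) := by
  have hc := L.amb.1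
  refine ⟨?_, ?_, ?_⟩ <;>
    simp only [map_add, map_sub, map_smul, LinearMap.add_apply, LinearMap.sub_apply,
      LinearMap.smul_apply, hc p a, hc m a, hc m p, hc S a, hc S p, hc S m, L.a_a, L.aS, L.ap,
      L.am, L.p_p, L.m_m, L.p_m, L.pS, L.mS] <;> module

/-- `a` times the square of a `1/4`-vector. -/
theorem quarter_sq (hV : IsMajoranaAmbient mul B) {a : V} (h : IsMajoranaPair mul B μ a) (hn : B a a = 1)
    {w : V} (hw : mul a w = (1 / 4 : ℝ) • w) : mul a (mul w w) = (B w w / 4) • a := by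
  have hm := quarter_mul_quarter h hw hw
  rw [eigenSum_one_zero, Submodule.mem_sup] at hm
  obtain ⟨y, hy, z, hz, hyz⟩ := hm
  rw [h.2.2.1.2, Submodule.mem_span_singleton] at hy
  obtain ⟨t, rfl⟩ := hy
  rw [mem_eigen, zero_smul] at hz
  have hid : mul a a = a := h.2.2.1.1.2.1
  have h1 : mul a (mul w w) = t • a := by rw [← hyz, map_add, map_smul, hid, hz, add_zero]
  have hBz : B a z = 0 := by
    have h3 := hV.2.2.2.1 a a z
    rw [hz, hid, map_zero] at h3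
    exact h3.symm
  have h2 : B a (mul w w) = t := by
    rw [← hyz, map_add, map_smul, hn, hBz]; simp
  have h4 : B a (mul w w) = B w w / 4 := by
    rw [hV.2.2.2.1, hw, map_smul, LinearMap.smul_apply, smul_eq_mul]; ring
  rw [h1, ← h2, h4]

theorem Loc.aww (L : Loc mul B μ a p m pp mm S E O l o) :
    mul a (mul wv wv) = (((-1 : ℝ) * l ^ 2 + (1 : ℝ) * l + (1 / 64 : ℝ) * o + (-1 / 64 : ℝ))) • a := by
  obtain ⟨hz, hq, hBz, hBq⟩ := eigvecs L.amb L.pair L.norm L.swap L.Bap L.sig_eq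
  rw [quarter_sq L.amb L.pair L.norm hq]
  have hsum : wv = (1 / 2 : ℝ) • (p + m) - l • a - uv := by module
  have horth : B wv uv = 0 := by
    have h1 := L.amb.2.2.2.1 wv a uv
    rw [hz, map_zero, L.amb.1 wv a, hq, map_smul, LinearMap.smul_apply, smul_eq_mul] at h1
    linarith
  have hwa : B wv a = 0 := by rw [L.amb.2.1, hBq]
  have hval : B wv wv = B wv ((1 / 2 : ℝ) • (p + m)) := by
    conv_lhs => arg 2; rw [hsum]
    rw [map_sub, map_sub, map_smul (B wv) l, hwa, horth]; simp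
  rw [hval]
  congr 1
  have hs := L.amb.2.1
  have Bam : B a m = l := by
    rw [← L.swap, ← L.Bap]; conv_lhs => rw [← apply_axis L.pair]; rw [L.pair.2.1]
  simp only [map_add, map_smul, LinearMap.add_apply, LinearMap.smul_apply, smul_eq_mul,
    hs S p, hs S m, hs m p, L.BpS, L.BmS, L.Bpp, L.Bmm, L.Bpm, L.Bap, Bam]
  ring

/-- `a · σ₂'`. -/
theorem Loc.Y (L : Loc mul B μ a p m pp mm S E O l o) : mul a O = ((1 / 6 : ℝ) * l + (-19 / 3072 : ℝ)) • m
      + ((7 / 6144 : ℝ)) • mm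
      + ((-32 / 3 : ℝ) * l ^ 2 + (5 / 3 : ℝ) * l + (-1 / 24 : ℝ) * o + (-127 / 3072 : ℝ)) • a
      + ((1 / 6 : ℝ) * l + (-19 / 3072 : ℝ)) • p
      + ((7 / 6144 : ℝ)) • pp
      + ((7 / 96 : ℝ)) • E
      + ((32 / 3 : ℝ) * l + (-19 / 48 : ℝ)) • S := by
  obtain ⟨hz, -, -, -⟩ := eigvecs L.amb L.pair L.norm L.swap L.Bap L.sig_eq
  have h1 : mul a (mul uv uv) = 0 := zero_mul_zero L.pair hz hz
  have h2 := L.aww
  obtain ⟨e1, e2, -⟩ := L.expand
  rw [e1] at h1; rw [e2] at h2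
  simp only [map_add, map_smul, L.a_a, L.aS, L.ap, L.am, L.app, L.amm] at h1 h2
  linear_combination (norm := module) (-8 / 3 : ℝ) • h2 - (-8 / 3 : ℝ) • h1

/-- `a · σ₁σ₁`. -/
theorem Loc.AX (L : Loc mul B μ a p m pp mm S E O l o) : mul a (mul S S) = ((7 / 6144 : ℝ) * l + (-35 / 393216 : ℝ)) • m
      + ((-49 / 12582912 : ℝ)) • mm
      + ((157 / 192 : ℝ) * l ^ 2 + (-29 / 6144 : ℝ) * l + (49 / 49152 : ℝ) * o + (271 / 6291456 : ℝ)) • a
      + ((7 / 6144 : ℝ) * l + (-35 / 393216 : ℝ)) • p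
      + ((-49 / 12582912 : ℝ)) • pp
      + ((-49 / 196608 : ℝ)) • E
      + ((7 / 96 : ℝ) * l + (-35 / 6144 : ℝ)) • S := by
  obtain ⟨hz, -, -, -⟩ := eigvecs L.amb L.pair L.norm L.swap L.Bap L.sig_eq
  have h1 : mul a (mul uv uv) = 0 := zero_mul_zero L.pair hz hz
  obtain ⟨e1, -, -⟩ := L.expand
  rw [e1] at h1
  simp only [map_add, map_smul, L.a_a, L.aS, L.ap, L.am, L.app, L.amm, L.Y] at h1
  linear_combination (norm := module) (1 / 16 : ℝ) • h1

/-- `σ₁σ₁`. -/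
theorem Loc.X (L : Loc mul B μ a p m pp mm S E O l o) : mul S S = ((49 / 768 : ℝ) * l + (-245 / 196608 : ℝ)) • m
      + ((49 / 196608 : ℝ)) • mm
      + ((7 / 6 : ℝ) * l ^ 2 + (-7 / 384 : ℝ) * l + (7 / 1536 : ℝ) * o + (-7 / 98304 : ℝ)) • a
      + ((49 / 768 : ℝ) * l + (-245 / 196608 : ℝ)) • p
      + ((49 / 196608 : ℝ)) • pp
      + ((-7 / 1536 : ℝ)) • E
      + ((7 / 2048 : ℝ)) • O
      + ((-5 / 12 : ℝ) * l + (-13 / 1536 : ℝ)) • S := by
  obtain ⟨hz, hq, -, -⟩ := eigvecs L.amb L.pair L.norm L.swap L.Bap L.sig_eq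
  have h1 : mul a (mul uv wv) = (1 / 4 : ℝ) • mul uv wv := zero_mul_quarter L.pair hz hq
  obtain ⟨-, -, e3⟩ := L.expand
  rw [e3] at h1
  simp only [map_add, map_smul, L.a_a, L.aS, L.ap, L.am, L.app, L.amm, L.Y, L.AX] at h1
  linear_combination (norm := module) (1 / 4 : ℝ) • h1

end Local

end Cfsg.Agent.Sakuma
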