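import Cfsg.Agent.Lib.Sakuma.Local

/-!
# The chain of axes of two Majorana involutions

`Seq`: axes `a i` (`i : ℤ`) with involutions acting as reflections. Main result:
`exists_period`: some `a n` with `1 ≤ n ≤ 6` equals `a 0`.
-/

set_option autoImplicit false

namespace Cfsg.Agent.Sakuma

open Cfsg.Axial Cfsg.Agent.Axial

variable {V : Type*} [AddCommGroup V] [Module ℝ V]
variable {mul : V →ₗ[ℝ] V →ₗ[ℝ] V} {B : LinearMap.BilinForm ℝ V}

/-- A chain of axes with reflections. -/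
structure Seq (mul : V →ₗ[ℝ] V →ₗ[ℝ] V) (B : LinearMap.BilinForm ℝ V) where
  a : ℤ → V
  M : ℤ → V ≃ₗ[ℝ] V
  amb : IsMajoranaAmbient mul B
  pair : ∀ i, IsMajoranaPair mul B (M i) (a i)
  norm : ∀ i, B (a i) (a i) = 1
  refl : ∀ i j, M i (a j) = a (2 * i - j)

namespace Seq

variable (Q : Seq mul B)

/-- The inner product of neighbours. -/
def l : ℝ := B (Q.a 0) (Q.a 1)

/-- The inner product at distance two, at the even places. -/
def e : ℝ := B (Q.a 0) (Q.a 2)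

/-- The first `σ`. -/
noncomputable def S : V := sig mul (Q.a 0) (Q.a 1)

/-- The second `σ`, at the place `i`. -/
noncomputable def T (i : ℤ) : V := sig mul (Q.a i) (Q.a (i + 2))

include Q in
theorem Bcomm (x y : V) : B x y = B y x := Q.amb.2.1 x y

include Q in
theorem assoc (x y z : V) : B x (mul y z) = B (mul x y) z := Q.amb.2.2.2.1 x y z

theorem idem (i : ℤ) : mul (Q.a i) (Q.a i) = Q.a i := (Q.pair i).2.2.1.1.2.1

theorem B_refl (i : ℤ) {j j' : ℤ} (h : j' = 2 * i - j) :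
    B (Q.a i) (Q.a j) = B (Q.a i) (Q.a j') := by
  rw [h, ← Q.refl i j]
  conv_rhs => rw [← apply_axis (Q.pair i)]
  rw [(Q.pair i).2.1]

theorem sig_refl (i : ℤ) {j j' : ℤ} (h : j' = 2 * i - j) :
    sig mul (Q.a i) (Q.a j') = sig mul (Q.a i) (Q.a j) := by
  rw [h, ← Q.refl i j]
  conv_lhs => arg 2; rw [← apply_axis (Q.pair i)]
  rw [← map_sig (Q.M i) (Q.pair i).1, fixed_sig (Q.pair i)]

theorem l_eq (i : ℤ) : B (Q.a i) (Q.a (i + 1)) = Q.l := by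
  induction i using Int.induction_on with
  | zero => simp [l]
  | succ k ih =>
    rw [← ih, Q.Bcomm (Q.a k)]
    exact Q.B_refl _ (by ring)
  | pred k ih =>
    rw [← ih, sub_add_cancel, Q.Bcomm]
    exact Q.B_refl _ (by ring)

theorem S_eq (i : ℤ) : sig mul (Q.a i) (Q.a (i + 1)) = Q.S := by
  induction i using Int.induction_on with
  | zero => simp [S]
  | succ k ih =>
    rw [← ih, sig_comm Q.amb (Q.a k)]
    exact Q.sig_refl _ (by ring)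
  | pred k ih =>
    rw [← ih, sub_add_cancel, sig_comm Q.amb]
    exact Q.sig_refl _ (by ring)

theorem T_per {i j : ℤ} (h : j = i + 2) : Q.T j = Q.T i := by
  subst h
  rw [T, T, sig_comm Q.amb (Q.a i)]
  exact Q.sig_refl (i + 2) (by ring)

theorem B_adj {i j : ℤ} (h : j = i + 1) : B (Q.a i) (Q.a j) = Q.l := h ▸ Q.l_eq i

theorem mul_adj {i j : ℤ} (h : j = i + 1) :
    mul (Q.a i) (Q.a j) = Q.S + (1 / 32 : ℝ) • (Q.a i + Q.a j) := by
  subst h; rw [← Q.S_eq i]; exact mul_eq_sig _ _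

theorem mul_two {i j : ℤ} (h : j = i + 2) :
    mul (Q.a i) (Q.a j) = Q.T i + (1 / 32 : ℝ) • (Q.a i + Q.a j) := by
  subst h; exact mul_eq_sig _ _

theorem B_S (i : ℤ) : B (Q.a i) Q.S = (31 * Q.l - 1) / 32 := by
  rw [← Q.S_eq i, sig, map_sub, map_smul, map_add, Q.assoc, Q.idem, Q.norm, Q.B_adj rfl,
    smul_eq_mul]
  ring

theorem B_T (i : ℤ) : B (Q.a i) (Q.T i) = (31 * B (Q.a i) (Q.a (i + 2)) - 1) / 32 := by
  rw [T, sig, map_sub, map_smul, map_add, Q.assoc, Q.idem, Q.norm, smul_eq_mul]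
  ring

theorem B_T_other {i j k : ℤ} (hj : j = i - 1) (hk : k = j + 2) :
    B (Q.a i) (Q.T j) = (30 * Q.l + B (Q.a j) (Q.a k) - 1) / 32 := by
  subst hk
  have h1 : B (Q.a i) (Q.a j) = Q.l := by rw [Q.Bcomm]; exact Q.B_adj (by omega)
  have h2 : B (Q.a i) (Q.a (j + 2)) = Q.l := Q.B_adj (by omega)
  have h3 : mul (Q.a i) (Q.a j) = Q.S + (1 / 32 : ℝ) • (Q.a i + Q.a j) := by
    rw [Q.amb.1, Q.mul_adj (i := j) (j := i) (by omega), add_comm (Q.a j)]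
  have h4 : B Q.S (Q.a (j + 2)) = (31 * Q.l - 1) / 32 := by rw [Q.Bcomm, Q.B_S]
  rw [T, sig, map_sub, map_smul, map_add, Q.assoc, h3, map_add, LinearMap.add_apply, map_smul,
    LinearMap.smul_apply, map_add, LinearMap.add_apply, smul_eq_mul, smul_eq_mul, h1, h2, h4]
  ring

/-- The local data at the place `i`. -/
theorem loc (i : ℤ) : Loc mul B (Q.M i) (Q.a i) (Q.a (i + 1)) (Q.a (i - 1)) (Q.a (i + 2))
    (Q.a (i - 2)) Q.S (Q.T i) (Q.T (i + 1)) Q.l (B (Q.a (i - 1)) (Q.a (i + 1))) := by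
  have hsw : Q.M i (Q.a (i + 1)) = Q.a (i - 1) := by rw [Q.refl]; congr 1; ring
  have hcomm := Q.amb.1
  refine ⟨Q.amb, Q.pair i, Q.norm i, hsw, Q.mul_adj rfl, ?_, Q.mul_two rfl, ?_, Q.idem _, Q.idem _,
    ?_, ?_, ?_, Q.B_adj rfl, Q.norm _, Q.norm _, Q.Bcomm _ _, Q.B_S _, Q.B_S _⟩
  · rw [hcomm, Q.mul_adj (i := i - 1) (j := i) (by ring), add_comm (Q.a (i - 1))]
  · rw [hcomm, Q.mul_two (i := i - 2) (j := i) (by ring), add_comm (Q.a (i - 2)),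
      ← Q.T_per (i := i - 2) (j := i) (by ring)]
  · rw [hcomm, Q.mul_two (i := i - 1) (j := i + 1) (by ring), add_comm (Q.a (i - 1)),
      ← Q.T_per (i := i - 1) (j := i + 1) (by ring)]
  · refine mul_sig (b' := Q.a i) Q.amb (Q.pair (i + 1)) (Q.norm _) ?_ (Q.B_adj (j := i + 1 + 1) rfl) (Q.S_eq _) |>.trans ?_
    · exact (Q.refl (i + 1) (i + 1 + 1)).trans (congrArg Q.a (by ring : 2 * (i + 1) - (i + 1 + 1) = i))
    · rw [show i + 1 + 1 = i + 2 by ring]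
  · refine mul_sig (b' := Q.a (i - 2)) Q.amb (Q.pair (i - 1)) (Q.norm _) ?_ (Q.B_adj (j := i - 1 + 1) rfl) (Q.S_eq _) |>.trans ?_
    · exact (Q.refl (i - 1) (i - 1 + 1)).trans (congrArg Q.a (by ring : 2 * (i - 1) - (i - 1 + 1) = i - 2))
    · rw [sub_add_cancel, add_comm (Q.a i) (Q.a (i - 2))]

/-- `a · σ₂` at the same parity. -/
theorem mul_T (i : ℤ) : mul (Q.a i) (Q.T i) =
    ((31 * B (Q.a i) (Q.a (i + 2)) - 1) / 32) • Q.a i + (7 / 32 : ℝ) • Q.T i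
      + (7 / 2048 : ℝ) • (Q.a (i + 2) + Q.a (i - 2))
      + (7 * (1 - 32 * B (Q.a i) (Q.a (i + 2))) / 1024) • Q.a i :=
  mul_sig Q.amb (Q.pair i) (Q.norm i) ((Q.refl i (i + 2)).trans (congrArg Q.a (by ring))) rfl rfl

theorem B_two (i : ℤ) : B (Q.a i) (Q.a (i + 2)) = Q.e := by
  have step : ∀ i, B (Q.a (i + 1)) (Q.a (i + 3)) = B (Q.a i) (Q.a (i + 2)) := by
    intro i
    have hY := (Q.loc i).Y
    have h0 : B (Q.a i) (mul (Q.a i) (Q.T (i + 1))) = B (Q.a i) (Q.T (i + 1)) := by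
      rw [Q.assoc, Q.idem]
    have hTm : Q.T (i - 1) = Q.T (i + 1) := (Q.T_per (by ring)).symm
    have ho : B (Q.a (i - 1)) (Q.a (i + 1)) = B (Q.a (i + 1)) (Q.a (i + 3)) := by
      rw [Q.Bcomm]; exact Q.B_refl _ (by ring)
    have hOth : B (Q.a i) (Q.T (i + 1)) = (30 * Q.l + B (Q.a (i - 1)) (Q.a (i + 1)) - 1) / 32 := by
      rw [← hTm]; exact Q.B_T_other rfl (by ring)
    have hl' : B (Q.a i) (Q.a (i - 1)) = Q.l := by rw [Q.Bcomm]; exact Q.B_adj (by ring)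
    have he' : B (Q.a i) (Q.a (i - 2)) = B (Q.a i) (Q.a (i + 2)) :=
      (Q.B_refl i (j := i + 2) (j' := i - 2) (by ring)).symm
    rw [hY] at h0
    simp only [map_add, map_smul, smul_eq_mul, Q.norm, Q.B_adj (i := i) rfl, hl', he', Q.B_T,
      Q.B_S, hOth, ho] at h0
    linarith
  induction i using Int.induction_on with
  | zero => simp [e]
  | succ k ih =>
    rw [← ih, ← step k]
    congr 2 <;> ring
  | pred k ih =>
    rw [← ih, ← step (-(k : ℤ) - 1)]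
    congr 2 <;> ring

theorem B_at_two {i j : ℤ} (h : j = i + 2) : B (Q.a i) (Q.a j) = Q.e := h ▸ Q.B_two i

/-- The recurrence. -/
theorem rec3 (i : ℤ) : Q.a (i + 3) = ((256 : ℝ) * Q.l + (-6 : ℝ)) • Q.a (i - 1)
      + ((1 : ℝ)) • Q.a (i - 2)
      + ((32768 / 7 : ℝ) * Q.l ^ 2 + (-2304 / 7 : ℝ) * Q.l + (128 / 7 : ℝ) * Q.e + (33 / 7 : ℝ)) • Q.a i
      + ((-32768 / 7 : ℝ) * Q.l ^ 2 + (2304 / 7 : ℝ) * Q.l + (-128 / 7 : ℝ) * Q.e + (-33 / 7 : ℝ)) • Q.a (i + 1)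
      + ((-256 : ℝ) * Q.l + (6 : ℝ)) • Q.a (i + 2)
      + ((-32 : ℝ)) • Q.T i
      + ((32 : ℝ)) • Q.T (i + 1) := by
  have hX1 := (Q.loc i).X
  have hX2 := (Q.loc (i + 1)).X
  rw [Q.B_at_two (i := i - 1) (by ring)] at hX1
  rw [show i + 1 + 1 = i + 2 by ring, show i + 1 - 1 = i by ring, show i + 1 + 2 = i + 3 by ring,
    show i + 1 - 2 = i - 1 by ring, Q.B_at_two (i := i) rfl, Q.T_per (i := i) (j := i + 2) rfl] at hX2
  have h := hX1.symm.trans hX2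
  linear_combination (norm := module) -(196608 / 49 : ℝ) • h

theorem rec3_at {i j p1 p2 m1 m2 o1 : ℤ} (hj : j = i + 3) (h1 : p1 = i + 1) (h2 : p2 = i + 2)
    (h3 : m1 = i - 1) (h4 : m2 = i - 2) (h5 : o1 = i + 1) : Q.a j = ((256 : ℝ) * Q.l + (-6 : ℝ)) • Q.a m1
      + ((1 : ℝ)) • Q.a m2
      + ((32768 / 7 : ℝ) * Q.l ^ 2 + (-2304 / 7 : ℝ) * Q.l + (128 / 7 : ℝ) * Q.e + (33 / 7 : ℝ)) • Q.a i
      + ((-32768 / 7 : ℝ) * Q.l ^ 2 + (2304 / 7 : ℝ) * Q.l + (-128 / 7 : ℝ) * Q.e + (-33 / 7 : ℝ)) • Q.a p1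
      + ((-256 : ℝ) * Q.l + (6 : ℝ)) • Q.a p2
      + ((-32 : ℝ)) • Q.T i
      + ((32 : ℝ)) • Q.T o1 := by
  subst hj h1 h2 h3 h4 h5; exact Q.rec3 i

theorem B_T_at {i j : ℤ} (h : j = i ∨ j = i + 2 ∨ j = i - 2 ∨ j = i + 4 ∨ j = i - 4) :
    B (Q.a i) (Q.T j) = (31 * Q.e - 1) / 32 := by
  have h0 : B (Q.a i) (Q.T i) = (31 * Q.e - 1) / 32 := by rw [Q.B_T, Q.B_two]
  rcases h with rfl | rfl | rfl | rfl | rfl
  · exact h0
  · rwa [Q.T_per rfl]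
  · rwa [← Q.T_per (i := i - 2) (j := i) (by ring)]
  · rwa [Q.T_per (i := i + 2) (by ring), Q.T_per rfl]
  · rwa [← Q.T_per (i := i - 4) (j := i - 2) (by ring), ← Q.T_per (i := i - 2) (j := i) (by ring)]

theorem B_T_odd {i j : ℤ} (h : j = i - 1 ∨ j = i + 1 ∨ j = i + 3 ∨ j = i - 3) :
    B (Q.a i) (Q.T j) = (30 * Q.l + Q.e - 1) / 32 := by
  have h0 : B (Q.a i) (Q.T (i - 1)) = (30 * Q.l + Q.e - 1) / 32 := by
    rw [Q.B_T_other rfl rfl, Q.B_two]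
  rcases h with rfl | rfl | rfl | rfl
  · exact h0
  · rwa [Q.T_per (i := i - 1) (by ring)]
  · rwa [Q.T_per (i := i + 1) (by ring), Q.T_per (i := i - 1) (by ring)]
  · rwa [← Q.T_per (i := i - 3) (j := i - 1) (by ring)]

/-- The inner product at distance three. -/
noncomputable def L3 (l e : ℝ) : ℝ := ((-32768 / 7 : ℝ) * l ^ 3 + (36864 / 7 : ℝ) * l ^ 2 + (-1920 / 7 : ℝ) * l * e + (-2169 / 7 : ℝ) * l + (-33 / 7 : ℝ) * e + (33 / 7 : ℝ))
/-- The inner product at distance four. -/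
noncomputable def L4 (l e : ℝ) : ℝ := ((8388608 / 7 : ℝ) * l ^ 4 + (-9601024 / 7 : ℝ) * l ^ 3 + (65536 : ℝ) * l ^ 2 * e + (110592 : ℝ) * l ^ 2 + (-640 / 7 : ℝ) * l * e + (-19840 / 7 : ℝ) * l + (-128 / 7 : ℝ) * e ^ 2 + (-3 : ℝ) * e + (156 / 7 : ℝ))
/-- The inner product at distance five. -/
noncomputable def L5 (l e : ℝ) : ℝ := ((-13958643712 / 49 : ℝ) * l ^ 5 + (16273899520 / 49 : ℝ) * l ^ 4 + (-754974720 / 49 : ℝ) * l ^ 3 * e + (-1633419264 / 49 : ℝ) * l ^ 3 + (12582912 / 49 : ℝ) * l ^ 2 * e + (8683520 / 7 : ℝ) * l ^ 2 + (475136 / 49 : ℝ) * l * e ^ 2 + (259584 / 49 : ℝ) * l * e + (-137721 / 7 : ℝ) * l + (-256 / 49 : ℝ) * e ^ 2 + (-5256 / 49 : ℝ) * e + (5512 / 49 : ℝ))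
/-- The inner product at distance six. -/
noncomputable def L6 (l e : ℝ) : ℝ := ((3298534883328 / 49 : ℝ) * l ^ 6 + (-3917010173952 / 49 : ℝ) * l ^ 5 + (177167400960 / 49 : ℝ) * l ^ 4 * e + (469317451776 / 49 : ℝ) * l ^ 4 + (-5511315456 / 49 : ℝ) * l ^ 3 * e + (-22767894528 / 49 : ℝ) * l ^ 3 + (-25165824 / 7 : ℝ) * l ^ 2 * e ^ 2 + (-97910784 / 49 : ℝ) * l ^ 2 * e + (542429184 / 49 : ℝ) * l ^ 2 + (2457600 / 49 : ℝ) * l * e ^ 2 + (5162880 / 49 : ℝ) * l * e + (-904320 / 7 : ℝ) * l + (16384 / 49 : ℝ) * e ^ 3 + (1152 / 49 : ℝ) * e ^ 2 + (-46500 / 49 : ℝ) * e + (29013 / 49 : ℝ))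

theorem B_three {i j : ℤ} (h : j = i + 3) : B (Q.a i) (Q.a j) = L3 Q.l Q.e := by
  subst h
  rw [Q.rec3 i]
  simp only [map_add, map_smul, smul_eq_mul, Q.norm, Q.B_adj (i := i) rfl, Q.Bcomm (Q.a i) (Q.a (i - 1)),
    Q.Bcomm (Q.a i) (Q.a (i - 2)), Q.B_adj (i := i - 1) (j := i) (by ring),
    Q.B_at_two (i := i - 2) (j := i) (by ring), Q.B_at_two (i := i) (j := i + 2) rfl,
    Q.B_T_at (i := i) (j := i) (Or.inl rfl), Q.B_T_odd (i := i) (j := i + 1) (by omega), L3]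
  ring

theorem B_four {i j : ℤ} (h : j = i + 4) : B (Q.a i) (Q.a j) = L4 Q.l Q.e := by
  subst h
  rw [Q.rec3_at (i := i + 1) (j := i + 4) (p1 := i + 2) (p2 := i + 3) (m1 := i) (m2 := i - 1)
    (o1 := i + 2) (by ring) (by ring) (by ring) (by ring) (by ring) (by ring)]
  simp only [map_add, map_smul, smul_eq_mul, Q.norm, Q.Bcomm (Q.a i) (Q.a (i - 1)),
    Q.B_adj (i := i) rfl, Q.B_at_two (i := i) (j := i + 2) rfl, Q.B_three (i := i) (j := i + 3) rfl,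
    Q.B_adj (i := i - 1) (j := i) (by ring),
    Q.B_T_at (i := i) (j := i + 2) (by omega), Q.B_T_odd (i := i) (j := i + 1) (by omega), L3, L4]
  ring

theorem B_five {i j : ℤ} (h : j = i + 5) : B (Q.a i) (Q.a j) = L5 Q.l Q.e := by
  subst h
  rw [Q.rec3_at (i := i + 2) (j := i + 5) (p1 := i + 3) (p2 := i + 4) (m1 := i + 1) (m2 := i)
    (o1 := i + 3) (by ring) (by ring) (by ring) (by ring) (by ring) (by ring)]
  simp only [map_add, map_smul, smul_eq_mul, Q.norm,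
    Q.B_adj (i := i) rfl, Q.B_at_two (i := i) (j := i + 2) rfl, Q.B_three (i := i) (j := i + 3) rfl,
    Q.B_four (i := i) (j := i + 4) rfl,
    Q.B_T_at (i := i) (j := i + 2) (by omega), Q.B_T_odd (i := i) (j := i + 3) (by omega),
    L3, L4, L5]
  ring

theorem B_six {i j : ℤ} (h : j = i + 6) : B (Q.a i) (Q.a j) = L6 Q.l Q.e := by
  subst h
  rw [Q.rec3_at (i := i + 3) (j := i + 6) (p1 := i + 4) (p2 := i + 5) (m1 := i + 2) (m2 := i + 1)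
    (o1 := i + 4) (by ring) (by ring) (by ring) (by ring) (by ring) (by ring)]
  simp only [map_add, map_smul, smul_eq_mul,
    Q.B_adj (i := i) rfl, Q.B_at_two (i := i) (j := i + 2) rfl, Q.B_three (i := i) (j := i + 3) rfl,
    Q.B_four (i := i) (j := i + 4) rfl, Q.B_five (i := i) (j := i + 5) rfl,
    Q.B_T_at (i := i) (j := i + 4) (by omega), Q.B_T_odd (i := i) (j := i + 3) (by omega),
    L3, L4, L5, L6]
  ring

/-- `a i · a (i + 3)`, computed from the recurrence. -/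
theorem mul_three (i : ℤ) : mul (Q.a i) (Q.a (i + 3)) = ((40 / 3 : ℝ) * Q.l + (-37 / 96 : ℝ)) • Q.a (i - 1)
      + ((-1 / 24 : ℝ)) • Q.a (i - 2)
      + ((88064 / 21 : ℝ) * Q.l ^ 2 + (-5576 / 21 : ℝ) * Q.l + (-160 / 21 : ℝ) * Q.e + (1363 / 336 : ℝ)) • Q.a i
      + ((-1024 / 7 : ℝ) * Q.l ^ 2 + (328 / 21 : ℝ) * Q.l + (-4 / 7 : ℝ) * Q.e + (-29 / 84 : ℝ)) • Q.a (i + 1)
      + ((-8 : ℝ) * Q.l + (11 / 96 : ℝ)) • Q.a (i + 2)
      + ((-256 : ℝ) * Q.l + (7 / 3 : ℝ)) • Q.T i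
      + ((-32768 / 7 : ℝ) * Q.l ^ 2 + (19456 / 21 : ℝ) * Q.l + (-128 / 7 : ℝ) * Q.e + (-491 / 21 : ℝ)) • Q.S := by
  have L := Q.loc i
  have hY := L.Y
  rw [Q.B_at_two (i := i - 1) (by ring)] at hY
  have hT := Q.mul_T i
  rw [Q.B_two] at hT
  rw [Q.rec3 i]
  simp only [map_add, map_smul, L.a_a, L.aS, L.ap, L.am, L.app, L.amm, hY, hT]
  module

/-- The same product from the other end. -/
theorem mul_three' (i : ℤ) : mul (Q.a i) (Q.a (i + 3)) = ((-8 : ℝ) * Q.l + (11 / 96 : ℝ)) • Q.a (i + 1)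
      + ((-1024 / 7 : ℝ) * Q.l ^ 2 + (328 / 21 : ℝ) * Q.l + (-4 / 7 : ℝ) * Q.e + (-29 / 84 : ℝ)) • Q.a (i + 2)
      + ((88064 / 21 : ℝ) * Q.l ^ 2 + (-5576 / 21 : ℝ) * Q.l + (-160 / 21 : ℝ) * Q.e + (1363 / 336 : ℝ)) • Q.a (i + 3)
      + ((40 / 3 : ℝ) * Q.l + (-37 / 96 : ℝ)) • Q.a (i + 4)
      + ((-1 / 24 : ℝ)) • Q.a (i + 5)
      + ((-256 : ℝ) * Q.l + (7 / 3 : ℝ)) • Q.T (i + 1)
      + ((-32768 / 7 : ℝ) * Q.l ^ 2 + (19456 / 21 : ℝ) * Q.l + (-128 / 7 : ℝ) * Q.e + (-491 / 21 : ℝ)) • Q.S := by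
  have hrec : Q.a i = ((-256 : ℝ) * Q.l + (6 : ℝ)) • Q.a (i + 1)
      + ((-32768 / 7 : ℝ) * Q.l ^ 2 + (2304 / 7 : ℝ) * Q.l + (-128 / 7 : ℝ) * Q.e + (-33 / 7 : ℝ)) • Q.a (i + 2)
      + ((32768 / 7 : ℝ) * Q.l ^ 2 + (-2304 / 7 : ℝ) * Q.l + (128 / 7 : ℝ) * Q.e + (33 / 7 : ℝ)) • Q.a (i + 3)
      + ((256 : ℝ) * Q.l + (-6 : ℝ)) • Q.a (i + 4)
      + ((1 : ℝ)) • Q.a (i + 5)
      + ((32 : ℝ)) • Q.T i
      + ((-32 : ℝ)) • Q.T (i + 1) := by
    have h := Q.rec3_at (i := i + 2) (j := i + 5) (p1 := i + 3) (p2 := i + 4) (m1 := i + 1) (m2 := i)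
      (o1 := i + 3) (by ring) (by ring) (by ring) (by ring) (by ring) (by ring)
    rw [Q.T_per (i := i) (j := i + 2) rfl, Q.T_per (i := i + 1) (j := i + 3) (by ring)] at h
    linear_combination (norm := module) -(1 : ℝ) • h
  have L := Q.loc (i + 3)
  rw [show i + 3 + 1 = i + 4 by ring, show i + 3 - 1 = i + 2 by ring, show i + 3 + 2 = i + 5 by ring,
    show i + 3 - 2 = i + 1 by ring, Q.B_at_two (i := i + 2) (j := i + 4) (by ring),
    Q.T_per (i := i + 1) (j := i + 3) (by ring),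
    Q.T_per (i := i + 2) (j := i + 4) (by ring), Q.T_per (i := i) (j := i + 2) rfl] at L
  have hT := Q.mul_T (i + 3)
  rw [Q.B_two, Q.T_per (i := i + 1) (j := i + 3) (by ring), show i + 3 + 2 = i + 5 by ring,
    show i + 3 - 2 = i + 1 by ring] at hT
  rw [Q.amb.1]
  conv_lhs => arg 2; rw [hrec]
  simp only [map_add, map_smul, L.a_a, L.aS, L.ap, L.am, L.app, L.amm, L.Y, hT]
  module

/-- The first equation. -/
theorem eq_one : ((786432 / 7 : ℝ) * Q.l ^ 4 + (-872448 / 7 : ℝ) * Q.l ^ 3 + (15360 / 7 : ℝ) * Q.l ^ 2 * Q.e + (69120 / 7 : ℝ) * Q.l ^ 2 + (3336 / 7 : ℝ) * Q.l * Q.e + (-1800 / 7 : ℝ) * Q.l + (48 / 7 : ℝ) * Q.e ^ 2 + (-501 / 56 : ℝ) * Q.e + (117 / 56 : ℝ)) = 0 := by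
  have h := congrArg (B (Q.a 1)) ((Q.mul_three 0).symm.trans (Q.mul_three' 0))
  simp only [zero_add, zero_sub, map_add, map_smul, smul_eq_mul, Q.norm, Q.B_S,
    Q.Bcomm (Q.a 1) (Q.a 0), Q.Bcomm (Q.a 1) (Q.a (-1)), Q.Bcomm (Q.a 1) (Q.a (-2)),
    Q.B_adj (i := 0) (j := 1) rfl, Q.B_adj (i := 1) (j := 2) rfl,
    Q.B_at_two (i := -1) (j := 1) rfl, Q.B_at_two (i := 1) (j := 3) rfl,
    Q.B_three (i := -2) (j := 1) rfl, Q.B_three (i := 1) (j := 4) rfl,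
    Q.B_four (i := 1) (j := 5) rfl,
    Q.B_T_at (i := 1) (j := 1) (Or.inl rfl), Q.B_T_odd (i := 1) (j := 0) (by omega), L3, L4] at h
  linear_combination h

/-- The second equation. -/
theorem eq_two : ((-402653184 / 49 : ℝ) * Q.l ^ 5 + (453771264 / 49 : ℝ) * Q.l ^ 4 + (-19660800 / 49 : ℝ) * Q.l ^ 3 * Q.e + (-33103872 / 49 : ℝ) * Q.l ^ 3 + (1195008 / 49 : ℝ) * Q.l ^ 2 * Q.e + (92160 / 7 : ℝ) * Q.l ^ 2 + (-70656 / 49 : ℝ) * Q.l * Q.e ^ 2 + (-124392 / 49 : ℝ) * Q.l * Q.e + (216 / 7 : ℝ) * Q.l + (-2088 / 49 : ℝ) * Q.e ^ 2 + (8703 / 196 : ℝ) * Q.e + (-351 / 196 : ℝ)) = 0 := by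
  have h := congrArg (B (Q.a 0)) ((Q.mul_three 0).symm.trans (Q.mul_three' 0))
  simp only [zero_add, zero_sub, map_add, map_smul, smul_eq_mul, Q.norm, Q.B_S,
    Q.Bcomm (Q.a 0) (Q.a (-1)), Q.Bcomm (Q.a 0) (Q.a (-2)),
    Q.B_adj (i := 0) (j := 1) rfl, Q.B_adj (i := -1) (j := 0) rfl,
    Q.B_at_two (i := -2) (j := 0) rfl, Q.B_at_two (i := 0) (j := 2) rfl,
    Q.B_three (i := 0) (j := 3) rfl, Q.B_four (i := 0) (j := 4) rfl, Q.B_five (i := 0) (j := 5) rfl,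
    Q.B_T_at (i := 0) (j := 0) (Or.inl rfl), Q.B_T_odd (i := 0) (j := 1) (by omega),
    L3, L4, L5] at h
  linear_combination h

theorem eq_of_B_eq_one {i j : ℤ} (h : B (Q.a i) (Q.a j) = 1) : Q.a i = Q.a j := by
  by_contra hne
  have h1 := Q.amb.2.2.1 _ (sub_ne_zero.mpr hne)
  simp only [map_sub, LinearMap.sub_apply, Q.norm, Q.Bcomm (Q.a j) (Q.a i), h] at h1
  linarith

theorem exists_period : ∃ n : ℕ, 1 ≤ n ∧ n ≤ 6 ∧ Q.a (n : ℤ) = Q.a 0 := by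
  have f1 := Q.eq_one
  have f2 := Q.eq_two
  generalize hl : Q.l = l at f1 f2
  generalize he : Q.e = e at f1 f2
  have hlin : ((69154883340599296 / 62702215875 : ℝ) * l ^ 8 + (-479221730649309184 / 62702215875 : ℝ) * l ^ 7 + (939871183044608 / 113797125 : ℝ) * l ^ 6 + (-23652520832270336 / 12540443175 : ℝ) * l ^ 5 + (843595994595328 / 4823247375 : ℝ) * l ^ 4 + (-67867483648 / 8188875 : ℝ) * l ^ 3 + (1495748375488 / 6966912875 : ℝ) * l ^ 2 + (1 : ℝ) * l * e + (-636605471 / 220007775 : ℝ) * l + (-1 / 64 : ℝ) * e + (1 / 64 : ℝ)) = 0 := by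
    linear_combination ((42472596045824 / 2821599714375 : ℝ) * l ^ 4 + (-32975618048 / 19751198000625 : ℝ) * l ^ 3 * e + (-61730872754176 / 637135419375 : ℝ) * l ^ 3 + (-64985153536 / 1039536736875 : ℝ) * l ^ 2 * e + (4756651264 / 1164232125 : ℝ) * l ^ 2 + (-1481326592 / 19751198000625 : ℝ) * l * e ^ 2 + (-4991641136512 / 19751198000625 : ℝ) * l * e + (-2450610037012 / 6583732666875 : ℝ) * l + (-503168 / 227025264375 : ℝ) * e ^ 2 + (-6965643176 / 940533238125 : ℝ) * e + (8765107193 / 975367802500 : ℝ)) * f1 + ((201975660544 / 2821599714375 : ℝ) * l ^ 3 + (-64405504 / 2821599714375 : ℝ) * l ^ 2 * e + (-305976668416 / 564319942875 : ℝ) * l ^ 2 + (-186675328 / 564319942875 : ℝ) * l * e + (-14772990736 / 188106647625 : ℝ) * l + (-1006336 / 2821599714375 : ℝ) * e ^ 2 + (-3362459966 / 2821599714375 : ℝ) * e + (26472417599 / 15048531810000 : ℝ)) * f2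
  have huni : l * (l - 1) * (l - 1 / 8) * (l - 13 / 256) * (l - 1 / 64) * (l - 1 / 32) * (l - 3 / 128)
      * (l - 5 / 256) = 0 := by
    linear_combination ((5233 / 330301440 : ℝ) * l ^ 4 + (-1 / 660602880 : ℝ) * l ^ 3 * e + (-33619 / 56371445760 : ℝ) * l ^ 3 + (14179 / 338228674560 : ℝ) * l ^ 2 * e + (245137 / 4329327034368 : ℝ) * l ^ 2 + (-23 / 338228674560 : ℝ) * l * e ^ 2 + (55291 / 43293270343680 : ℝ) * l * e + (-823201 / 923589767331840 : ℝ) * l + (-29 / 14431090114560 : ℝ) * e ^ 2 + (7589 / 923589767331840 : ℝ) * e + (-481 / 1407374883553280 : ℝ)) * f1 + ((2293 / 24159191040 : ℝ) * l ^ 3 + (-1 / 48318382080 : ℝ) * l ^ 2 * e + (861 / 68719476736 : ℝ) * l ^ 2 + (209 / 1236950581248 : ℝ) * l * e + (-16259 / 79164837199872 : ℝ) * l + (-1 / 3092376453120 : ℝ) * e ^ 2 + (557 / 395824185999360 : ℝ) * e + (-3367 / 8444249301319680 : ℝ)) * f2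
  have h1 : ∀ {n : ℕ}, 1 ≤ n → n ≤ 6 → B (Q.a 0) (Q.a (n : ℤ)) = 1 →
      ∃ n : ℕ, 1 ≤ n ∧ n ≤ 6 ∧ Q.a (n : ℤ) = Q.a 0 := fun {n} hn hn' h =>
    ⟨n, hn, hn', (Q.eq_of_B_eq_one h).symm⟩
  simp only [mul_eq_zero, sub_eq_zero] at huni
  rcases huni with ((((((h | h) | h) | h) | h) | h) | h) | h
  · subst h
    refine h1 (n := 2) (by norm_num) (by norm_num) ?_
    rw [Q.B_at_two (by norm_num), he]; norm_num at hlin ⊢; linarith
  · subst h
    refine h1 (n := 1) (by norm_num) (by norm_num) ?_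
    rw [Q.B_adj (by norm_num), hl]
  · subst h
    refine h1 (n := 2) (by norm_num) (by norm_num) ?_
    rw [Q.B_at_two (by norm_num), he]; norm_num at hlin ⊢; linarith
  · subst h
    refine h1 (n := 3) (by norm_num) (by norm_num) ?_
    have : e = 13 / 256 := by norm_num at hlin ⊢; linarith
    rw [Q.B_three (by norm_num), hl, he, this, L3]; norm_num
  · subst h
    have : (e - 1 / 64) * (e - 1 / 8) = 0 := by linear_combination (7 / 48 : ℝ) * f1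
    rcases mul_eq_zero.mp this with h' | h'
    · refine h1 (n := 3) (by norm_num) (by norm_num) ?_
      rw [Q.B_three (by norm_num), hl, he, sub_eq_zero.mp h', L3]; norm_num
    · refine h1 (n := 4) (by norm_num) (by norm_num) ?_
      rw [Q.B_four (by norm_num), hl, he, sub_eq_zero.mp h', L4]; norm_num
  · subst h
    refine h1 (n := 4) (by norm_num) (by norm_num) ?_
    have : e = 0 := by norm_num at hlin ⊢; linarith
    rw [Q.B_four (by norm_num), hl, he, this, L4]; norm_num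
  · subst h
    refine h1 (n := 5) (by norm_num) (by norm_num) ?_
    have : e = 3 / 128 := by norm_num at hlin ⊢; linarith
    rw [Q.B_five (by norm_num), hl, he, this, L5]; norm_num
  · subst h
    refine h1 (n := 6) (by norm_num) (by norm_num) ?_
    have : e = 13 / 256 := by norm_num at hlin ⊢; linarith
    rw [Q.B_six (by norm_num), hl, he, this, L6]; norm_num

end Seq

end Cfsg.Agent.Sakuma
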